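import Groth.Agent.L28.AffLef.Main
import Groth.Agent.L28.AffLef.Dim
import Groth.Agent.L28.AffLef.Lim
import Groth.Agent.L27.StalkRpush.Final
import Groth.Agent.L28.EtTrace.Galois
import Groth.Prelude.Def_VanCyc

/-! # Vanishing of higher direct images with affine stages -/

set_option autoImplicit false
set_option linter.style.haveILetI false
set_option linter.unusedSectionVars false
set_option backward.isDefEq.respectTransparency.types false

universe u

open CategoryTheory CategoryTheory.Limits AlgebraicGeometry Opposite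

noncomputable section

namespace Groth.L28.Nearby

open Groth.L27 Groth.L27.StalkRpush Groth.L05.Henselization

variable {X S : Scheme.{u}} (f : X ⟶ S) [QuasiCompact f] [QuasiSeparated f]

theorem nsmul_id_map {Y Z : Scheme.{u}} (T : EtCoh.Ab Y ⥤ EtCoh.Ab Z) [T.Additive] {G : EtCoh.Ab Y} {N : ℕ}
    (h : N • 𝟙 G = 0) : N • 𝟙 (T.obj G) = 0 := by
  rw [← T.map_id, ← T.map_nsmul, h, T.map_zero]

/-- Higher direct images vanish when they vanish on the affine étale neighbourhoods. -/
theorem isZero_Rpush_of_stages {d : ℕ} (h : ∀ (U : S.Etale), IsAffine U.left → EtCoh.CohDimLE ((EtCoh.bc f).obj U).left d)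
    (G : EtCoh.Ab X) {N : ℕ} (hN : 0 < N) (hG : N • 𝟙 G = 0) (q : ℕ) (hq : d < q) :
    IsZero ((EtCoh.Rpush f q).obj G) := by
  refine (EtSite.isZero_iff_stalks _).2 fun Ω _ _ ξ => ?_
  obtain ⟨_, ⟨V, hV, rfl⟩, hsV, -⟩ :=
    S.isBasis_affineOpens.exists_subset_of_mem_open (Set.mem_univ (ξ.base default)) isOpen_univ
  have hr : Set.range ξ ⊆ Set.range hV.fromSpec := by
    rintro _ ⟨t, rfl⟩
    rw [hV.range_fromSpec, Subsingleton.elim (α := Spec (CommRingCat.of Ω)) t default]
    exact hsV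
  obtain ⟨φ, hφ⟩ := Spec.map_surjective (IsOpenImmersion.lift hV.fromSpec ξ hr)
  let B : Type u := Γ(S, V)
  letI : Algebra B Ω := φ.hom.toAlgebra
  obtain ⟨e⟩ := nonempty_natIso_chart f B hV.fromSpec Ω (Col B Ω) AlgEquiv.refl q ξ
    (by
      show ξ = Spec.map φ ≫ hV.fromSpec
      rw [hφ, IsOpenImmersion.lift_fac])
    _ rfl
  refine IsZero.of_iso ?_ (e.app G)
  refine @AddCommGrpCat.isZero_of_subsingleton _ ?_
  let F := (EtCoh.pull (pullback.fst f (toBase B (Col B Ω) ≫ hV.fromSpec))).obj G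
  let c := StalkRpush.cone f B hV.fromSpec Ω (Col B Ω) AlgEquiv.refl
  let D := StalkRpush.D f B hV.fromSpec Ω
  haveI : ∀ i, PreservesFiniteLimits (EtCoh.pull (LimCoh.prj c i)) := fun i =>
    EtSite.preservesFiniteLimits_pull _
  haveI : ∀ {i k : Idx B Ω} (g : k ⟶ i), PreservesFiniteLimits (EtCoh.pull (D.map g)) := fun g =>
    EtSite.preservesFiniteLimits_pull _
  haveI hA : ∀ (i k : Idx B Ω) (g : i ⟶ k), IsAffineHom (D.map g) := fun i k g => isAffineHom_D f B hV.fromSpec Ω g
  haveI : ∀ i, IsAffineHom (c.π.app i) := fun i =>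
    LimCoh.isAffineHom_π (isLimitCone f B hV.fromSpec Ω (Col B Ω) AlgEquiv.refl) i
  obtain ⟨h1, -⟩ := LimCoh.commutes_isLim (isLimitCone f B hV.fromSpec Ω (Col B Ω) AlgEquiv.refl)
    (LimCoh.pushCocn c F) (LimCoh.isLim_pushCocn c F) q
  refine subsingleton_of_forall_eq 0 fun x => ?_
  obtain ⟨i, η, rfl⟩ := h1 x
  have hv : EtCoh.CohDimLE (D.obj i) d := h ((nb B hV.fromSpec Ω).obj i) (inferInstanceAs (IsAffine (Spec _)))
  haveI : (EtCoh.pull (pullback.fst f (toBase B (Col B Ω) ≫ hV.fromSpec))).Additive :=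
    (EtCoh.pullPushAdj _).left_adjoint_additive
  haveI : (EtCoh.push (LimCoh.prj c i)).Additive := (EtCoh.pullPushAdj _).right_adjoint_additive
  rw [@Subsingleton.elim _ (hv ((EtCoh.push (LimCoh.prj c i)).obj F)
    (EtTrace.isTorsion_of_nsmul hN (nsmul_id_map _ (nsmul_id_map _ hG))) q hq) η 0]
  exact (LimCoh.ΦL (LimCoh.pushCocn c F) i q).map_zero

/-- An integral morphism of affine schemes does not raise the dimension. -/
theorem topologicalKrullDim_le_of_integral {Z W : Scheme.{u}} [IsAffine W] (m : Z ⟶ W) [IsIntegralHom m]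
    {c : WithBot ℕ∞} (h : topologicalKrullDim W ≤ c) : topologicalKrullDim Z ≤ c := by
  haveI : IsAffine Z := isAffine_of_isAffineHom m
  rw [IsHomeomorph.topologicalKrullDim_eq _ W.isoSpec.hom.homeomorph.isHomeomorph] at h
  rw [IsHomeomorph.topologicalKrullDim_eq _ Z.isoSpec.hom.homeomorph.isHomeomorph]
  replace h : ringKrullDim Γ(W, ⊤) ≤ c := (PrimeSpectrum.topologicalKrullDim_eq_ringKrullDim Γ(W, ⊤)).symm.trans_le h
  refine (PrimeSpectrum.topologicalKrullDim_eq_ringKrullDim Γ(Z, ⊤)).trans_le ?_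
  letI : Algebra Γ(W, ⊤) Γ(Z, ⊤) := m.appTop.hom.toAlgebra
  haveI : Algebra.IsIntegral Γ(W, ⊤) Γ(Z, ⊤) :=
    ⟨((HasAffineProperty.iff_of_isAffine (P := @IsIntegralHom) (f := m)).1 inferInstance).2⟩
  refine le_trans ?_ h
  exact Order.krullDim_le_of_strictMono (PrimeSpectrum.comap (algebraMap Γ(W, ⊤) Γ(Z, ⊤)))
    fun I J hIJ => Ideal.IsIntegral.comap_lt_comap hIJ

/-- Nearby cycles vanish above the dimension of the generic fibre. -/
theorem isZero_Rpush_jA (R K Ω : Type u) [CommRing R] [Field K] [Algebra R K] [Field Ω] [Algebra K Ω]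
    [IsSepClosed Ω] [Algebra.IsAlgebraic K Ω] [Algebra R Ω] [IsScalarTower R K Ω]
    {X : Scheme.{u}} (f : X ⟶ Spec (CommRingCat.of R)) [LocallyOfFiniteType f]
    (d : ℕ) (hd : topologicalKrullDim ↥(VanCyc.fib R f K) ≤ d)
    (G : EtCoh.Ab (VanCyc.fib R f Ω)) {N : ℕ} (hN : 0 < N) (hG : N • 𝟙 G = 0) (q : ℕ) (hq : d < q) :
    IsZero ((EtCoh.Rpush (VanCyc.jA R f Ω) q).obj G) := by
  haveI : IsAffineHom (VanCyc.toS R Ω) := inferInstance
  haveI : IsAffineHom (VanCyc.toS R K) := inferInstance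
  haveI : IsAffineHom (VanCyc.jA R f Ω) := MorphismProperty.pullback_fst (P := @IsAffineHom) _ _ inferInstance
  haveI : IsAffineHom (VanCyc.jA R f K) := MorphismProperty.pullback_fst (P := @IsAffineHom) _ _ inferInstance
  refine isZero_Rpush_of_stages (VanCyc.jA R f Ω) (fun U hU => ?_) G hN hG q hq
  haveI := hU
  let D := pullback U.hom (VanCyc.jA R f Ω)
  let W := pullback U.hom (VanCyc.jA R f K)
  haveI : IsAffineHom (pullback.fst U.hom (VanCyc.jA R f K)) :=
    MorphismProperty.pullback_fst (P := @IsAffineHom) _ _ inferInstance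
  haveI : IsAffineHom (pullback.fst U.hom (VanCyc.jA R f Ω)) :=
    MorphismProperty.pullback_fst (P := @IsAffineHom) _ _ inferInstance
  haveI : IsAffine ((𝟭 Scheme.{u}).obj U.left) := hU
  haveI : IsAffine W := isAffine_of_isAffineHom (pullback.fst U.hom (VanCyc.jA R f K))
  haveI : IsAffine D := isAffine_of_isAffineHom (pullback.fst U.hom (VanCyc.jA R f Ω))
  haveI : LocallyOfFiniteType (pullback.snd f (VanCyc.toS R K)) :=
    MorphismProperty.pullback_snd (P := @LocallyOfFiniteType) _ _ inferInstance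
  haveI : IsLocallyNoetherian (VanCyc.fib R f K) :=
    LocallyOfFiniteType.isLocallyNoetherian (pullback.snd f (VanCyc.toS R K))
  haveI : AlgebraicGeometry.Etale (pullback.snd U.hom (VanCyc.jA R f K)) :=
    MorphismProperty.pullback_snd (P := @AlgebraicGeometry.Etale) _ _ inferInstance
  have hW : topologicalKrullDim W ≤ (d : WithBot ℕ∞) :=
    AffLef.topologicalKrullDim_le_of_etale (pullback.snd U.hom (VanCyc.jA R f K)) hd
  let i₂ : Spec (CommRingCat.of Ω) ⟶ Spec (CommRingCat.of K) := Spec.map (CommRingCat.ofHom (algebraMap K Ω))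
  haveI : IsIntegralHom i₂ := by
    haveI : Algebra.IsIntegral K Ω := Algebra.IsAlgebraic.isIntegral
    exact IsIntegralHom.SpecMap_iff.2 (algebraMap_isIntegral_iff.2 inferInstance)
  let m' : pullback (U.hom ≫ f) (VanCyc.toS R Ω) ⟶ pullback (U.hom ≫ f) (VanCyc.toS R K) :=
    pullback.map _ _ _ _ (𝟙 _) i₂ (𝟙 _) (by simp) (by
      rw [Category.comp_id]
      show _ = Spec.map _ ≫ Spec.map _
      rw [← Spec.map_comp, ← CommRingCat.ofHom_comp, ← IsScalarTower.algebraMap_eq])
  haveI : IsIntegralHom m' := by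
    refine MorphismProperty.pullbackMap (P := @IsIntegralHom) (inferInstance) (inferInstance) (by simp) ?_
    show _ = Spec.map _ ≫ Spec.map _
    rw [← Spec.map_comp, ← CommRingCat.ofHom_comp, ← IsScalarTower.algebraMap_eq]
  let m : D ⟶ W := (pullbackRightPullbackFstIso f (VanCyc.toS R Ω) U.hom).hom ≫ m' ≫
    (pullbackRightPullbackFstIso f (VanCyc.toS R K) U.hom).inv
  haveI : IsIntegralHom m := inferInstance
  have hD : topologicalKrullDim D ≤ (d : WithBot ℕ∞) := topologicalKrullDim_le_of_integral m hW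
  haveI : AlgebraicGeometry.Etale (pullback.snd U.hom (VanCyc.jA R f Ω)) :=
    MorphismProperty.pullback_snd (P := @AlgebraicGeometry.Etale) _ _ inferInstance
  haveI : LocallyOfFiniteType (pullback.snd f (VanCyc.toS R Ω)) :=
    MorphismProperty.pullback_snd (P := @LocallyOfFiniteType) _ _ inferInstance
  have hΩ : EtCoh.CohDimLE (Spec (CommRingCat.of Ω)) 0 := fun F _ r hr => by
    obtain ⟨i, rfl⟩ : ∃ i, r = i + 1 := ⟨r - 1, by omega⟩
    exact CurveCd.subsingleton_H_sepClosed _ F i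
  haveI : LocallyOfFiniteType (pullback.snd U.hom (VanCyc.jA R f Ω) ≫ pullback.snd f (VanCyc.toS R Ω)) :=
    inferInstance
  exact (add_zero d) ▸ AffLef.cohDimLE_affine Ω D
    (pullback.snd U.hom (VanCyc.jA R f Ω) ≫ pullback.snd f (VanCyc.toS R Ω)) d 0 hD hΩ

end Groth.L28.Nearby
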