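import Groth.Agent.L27.SmoothLA.Nearby
import Groth.Agent.L27.XV.Proper
import Groth.Agent.L27.PBC.IsoOver
import Groth.Agent.L28.DimFun.Main
import Groth.Prelude.Def_VanCyc

/-! # Vanishing cycles of locally constant sheaves at smooth points -/

set_option autoImplicit false
set_option linter.style.haveILetI false
set_option linter.unusedSectionVars false
set_option backward.isDefEq.respectTransparency.types false

universe u

open CategoryTheory CategoryTheory.Limits AlgebraicGeometry Opposite IsLocalRing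

noncomputable section

namespace Groth.L28.Nearby

open Groth.L27

/-- A morphism bijective on one geometric stalk is so at every geometric point over the same point. -/
theorem isIso_stalk_of_base {X : Scheme.{u}} {F G : EtCoh.Ab X} (φ : F ⟶ G)
    {Ω Ω' : Type u} [Field Ω] [IsSepClosed Ω] [Field Ω'] [IsSepClosed Ω']
    (ξ : Spec (CommRingCat.of Ω) ⟶ X) (ξ' : Spec (CommRingCat.of Ω') ⟶ X)
    (h : ξ.base default = ξ'.base default) (hb : Function.Bijective ((EtCoh.stalk ξ).map φ)) :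
    IsIso ((EtCoh.stalk ξ').map φ) := by
  haveI : (EtCoh.stalk ξ).Additive := Functor.additive_of_preserves_binary_products _
  haveI : (EtCoh.stalk ξ').Additive := Functor.additive_of_preserves_binary_products _
  haveI : IsIso ((EtCoh.stalk ξ).map φ) := (ConcreteCategory.isIso_iff_bijective _).2 hb
  have hk : IsZero ((EtCoh.stalk ξ').obj (kernel φ)) := DimFun.isZero_stalk_of_base ξ ξ' h.symm
    (IsZero.of_iso (isZero_kernel_of_mono _) (PreservesKernel.iso (EtCoh.stalk ξ) φ))
  have hc : IsZero ((EtCoh.stalk ξ').obj (cokernel φ)) := DimFun.isZero_stalk_of_base ξ ξ' h.symm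
    (IsZero.of_iso (isZero_cokernel_of_epi _) (PreservesCokernel.iso (EtCoh.stalk ξ) φ))
  haveI : Mono ((EtCoh.stalk ξ').map φ) := Preadditive.mono_of_kernel_zero
    ((hk.of_iso (PreservesKernel.iso (EtCoh.stalk ξ') φ).symm).eq_of_src _ _)
  haveI : Epi ((EtCoh.stalk ξ').map φ) := Preadditive.epi_of_cokernel_zero
    ((hc.of_iso (PreservesCokernel.iso (EtCoh.stalk ξ') φ).symm).eq_of_tgt _ _)
  exact isIso_of_mono_of_epi _

set_option maxHeartbeats 1000000 in
/-- Vanishing cycles of a locally constant sheaf at a smooth point of the closed fibre. -/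
theorem vanishing_smooth_point (R Ω : Type u) [CommRing R] [HenselianLocalRing R] [IsSepClosed (ResidueField R)]
    [Field Ω] [IsSepClosed Ω] [Algebra R Ω] {X : Scheme.{u}} (f : X ⟶ Spec (CommRingCat.of R)) (y : X)
    (hy : f.base y = closedPoint R) (U : X.Opens) (hyU : y ∈ U) [Smooth (U.ι ≫ f)] (N : ℕ) (hN : IsUnit (N : R))
    (F : EtCoh.Ab X) (hlc : EtRest.IsLocallyConstant F) (hFN : N • 𝟙 F = 0)
    {Ω' : Type u} [Field Ω'] [IsSepClosed Ω'] (ξ : Spec (CommRingCat.of Ω') ⟶ X) (hξ : ξ.base default = y) :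
    IsIso ((EtCoh.stalk ξ).map ((EtCoh.pullPushAdj (VanCyc.jA R f Ω)).unit.app F)) ∧
      ∀ q : ℕ, 1 ≤ q → IsZero ((EtCoh.stalk ξ).obj ((EtCoh.Rpush (VanCyc.jA R f Ω) q).obj
        ((EtCoh.pull (VanCyc.jA R f Ω)).obj F))) := by
  obtain ⟨RX, _, _, _, _, hRX⟩ := L05.Henselization.exists_isStrictHenselization (X.presheaf.stalk y)
  haveI := hRX
  obtain ⟨_, _⟩ := StalkBC.henselian_strict y RX
  let s := VanCyc.toS R Ω
  haveI : IsAffineHom s := inferInstance
  let j := VanCyc.jA R f Ω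
  haveI : IsAffineHom j := MorphismProperty.pullback_fst (P := @IsAffineHom) _ _ inferInstance
  let η := Hens2.specOf X y RX
  let k := pullback.snd j η
  let fΩ := pullback.fst j η ≫ pullback.snd f s
  let L : Set ℕ := {ℓ | ℓ.Prime ∧ (ℓ : ResidueField R) ≠ 0}
  have hN0 : 0 < N := Nat.pos_of_ne_zero fun h => by
    rw [h, Nat.cast_zero] at hN
    exact not_isUnit_zero hN
  have hNk : (N : ResidueField R) ≠ 0 := by
    have := (hN.map (residue R)).ne_zero
    rwa [map_natCast] at this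
  have hFL : EtAcyc.IsLTorsion L F := DerBC.Killed.isLTorsion
    ⟨N, ⟨hN0, fun p hp ⟨c, hc⟩ => ⟨hp, fun h0 => hNk (by rw [hc, Nat.cast_mul, h0, zero_mul])⟩⟩, hFN⟩
  haveI : ConnectedSpace ↥(Spec (CommRingCat.of RX)) := FinBC.connectedSpace_local RX
  haveI : CompactSpace ↥(pullback j η) := QuasiCompact.compactSpace_of_compactSpace k
  haveI : QuasiSeparatedSpace ↥(pullback j η) := quasiSeparatedSpace_of_quasiSeparated k
  haveI := EtSite.preservesFiniteLimits_pull k
  haveI := EtSite.preservesFiniteLimits_pull η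
  have cZ : IsPullback k fΩ (η ≫ f) s :=
    (IsPullback.of_hasPullback j η).flip.paste_vert (IsPullback.of_hasPullback f s)
  have hacy : ∀ q, EtAcyc.IsAcyclicSchemeN L q (SGA7.nearbyFibre f y RX Ω) := fun q => by
    refine ⟨?_, ?_, fun ℓ hℓ hℓL p hp _ => (SmoothLA.nearby_smooth Ω ℓ hℓL.2 f y hy U hyU RX).2 p hp⟩
    · haveI := (SmoothLA.nearby_smooth Ω 1 (by simp) f y hy U hyU RX).1
      exact ConnectedSpace.toNonempty
    · exact (SmoothLA.nearby_smooth Ω 1 (by simp) f y hy U hyU RX).1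
  have hη : Spec.map (CommRingCat.ofHom (algebraMap ↑(X.presheaf.stalk y) RX)) ≫ X.fromSpecStalk y ≫ f = η ≫ f :=
    (Category.assoc _ _ _).symm
  have hZ : ∀ q, EtAcyc.IsAcyclicSchemeN L q (pullback j η) := fun q =>
    XV.isAcyclicScheme_of_iso (cZ.isoPullback.hom ≫ (pullback.congrHom hη rfl).inv) (hacy q)
  haveI : ConnectedSpace ↥(pullback j η) := (hZ 0).2.1
  obtain ⟨A, ⟨α⟩⟩ := FinBC.exists_iso_K RX (L28.LocConst.isLocallyConstant_pull η F hlc)
  have hηF : EtAcyc.IsLTorsion L ((EtCoh.pull η).obj F) := L28.AcyComp.isLTorsion_pull η hFL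
  have hA : ∀ a : A, ∃ m, EtAcyc.PrimesIn L m ∧ m • a = 0 :=
    FinBC.exists_nsmul_eq_zero_of_isLTorsion_K (X := Spec (CommRingCat.of RX)) (L28.EtTor.isLTorsion_iff_stalks.2
      fun Ω₁ _ _ ζ v => by
        obtain ⟨m, hm, h0⟩ := L28.EtTor.isLTorsion_iff_stalks.1 hηF Ω₁ ζ ((EtCoh.stalk ζ).map α.inv v)
        refine ⟨m, hm, (ConcreteCategory.bijective_of_isIso ((EtCoh.stalk ζ).map α.inv)).1 ?_⟩
        exact (map_nsmul ((EtCoh.stalk ζ).map α.inv).hom m v).trans (h0.trans (map_zero _).symm))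
  have key : ∀ n, Function.Bijective ((EtCoh.stalk (Hens2.geomPt X y RX)).map ((EtCoh.pullPushAdj j).unit.app F)) ∧
      ∀ q : ℕ, 0 < q → q ≤ n → IsZero ((EtCoh.stalk (Hens2.geomPt X y RX)).obj
        ((EtCoh.Rpush j q).obj ((EtCoh.pull j).obj F))) := by
    intro n
    refine FinBC.stalk_acyclic_le j y RX F n fun q _ => ?_
    refine LimBC.bijective_Hpull_congr k α.symm q ?_
    rcases Nat.eq_zero_or_pos q with rfl | hq0
    · exact FinBC.bijective_Hpull_zero_K k A
    · haveI := EtSite.subsingleton_H RX (ConstSect.K A _) q hq0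
      haveI : Subsingleton (EtCoh.H (pullback j η) (ConstSect.K A (pullback j η)) q) :=
        XV.subsingleton_H_K (fun ℓ hℓ hℓL => (hZ q).2.2 ℓ hℓ hℓL q hq0 le_rfl) A hA
      haveI : Subsingleton (EtCoh.H (pullback j η) ((EtCoh.pull k).obj (ConstSect.K A _)) q) :=
        @Equiv.subsingleton _ _
          ((EtCoh.HF (pullback j η) q).mapIso ((EtCore.pullConstIso k).app A)).addCommGroupIsoToAddEquiv.toEquiv this
      exact ⟨fun a b _ => Subsingleton.elim a b, fun b => ⟨0, Subsingleton.elim _ _⟩⟩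
  have hbase : (Hens2.geomPt X y RX).base default = ξ.base default := (PBC.geomPt_default _ _ RX).trans hξ.symm
  exact ⟨isIso_stalk_of_base _ _ ξ hbase (key 0).1,
    fun q hq => DimFun.isZero_stalk_of_base _ ξ hbase.symm ((key q).2 q hq le_rfl)⟩

end Groth.L28.Nearby
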